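import Groth.Agent.PBC.Deg0
import Groth.Agent.CohBC.God
import Groth.Agent.Lib.Euler
import Groth.Agent.KFlatLib.Scheme.FlatDescent
import Groth.Agent.KFlatLib.Perfect.Tensor
import Groth.Agent.QCoh.Devissage

/-!
# Global generation and faithfully flat base change
-/

set_option autoImplicit false
set_option linter.style.haveILetI false
set_option backward.isDefEq.respectTransparency false
set_option backward.isDefEq.respectTransparency.types false

universe u

open CategoryTheory CategoryTheory.Limits AlgebraicGeometry TopologicalSpace Opposite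
open scoped TensorProduct

noncomputable section

namespace Groth.Agent.GGFF

open Groth.Agent.QCoh

variable {X X' : Scheme.{u}}

/-- the global section of a morphism out of the structure sheaf -/
theorem homOfTop_one {M : X.Modules} (s : Coh.structureModule X ⟶ M) :
    homOfTop (s.app ⊤ (1 : Γ(X, ⊤))) = s := by
  refine Scheme.Modules.hom_ext _ _ fun W => ?_
  refine ConcreteCategory.hom_ext _ _ fun a => ?_
  refine (homOfTop_app _ a).trans ?_
  have h1 : M.presheaf.map (homOfLE (le_top (a := W))).op (s.app ⊤ (1 : Γ(X, ⊤))) = s.app W (1 : Γ(X, W)) := by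
    refine (ConcreteCategory.congr_hom (s.mapPresheaf.naturality (homOfLE (le_top (a := W))).op) _).symm.trans ?_
    exact congrArg (s.app W) (map_one (X.presheaf.map (homOfLE (le_top (a := W))).op).hom)
  rw [h1]
  exact ((congrArg (s.app W) (mul_one (show Γ(X, W) from a)).symm).trans
    (Scheme.Modules.Hom.app_smul (M := Coh.structureModule X) s a (1 : Γ(X, W)))).symm

/-- global sections of a globally generated module detect morphisms -/
theorem gg_of_isGloballyGenerated {M : X.Modules} (h : Curv2.IsGloballyGenerated M) : Euler.GG M := by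
  obtain ⟨ι, q, hq⟩ := h
  intro T g hg
  rw [← cancel_epi q, comp_zero]
  refine Sigma.hom_ext (f := fun _ : ι => SheafOfModules.unit X.ringCatSheaf) _ _ fun i => ?_
  rw [comp_zero]
  let s : Coh.structureModule X ⟶ M := Sigma.ι (fun _ : ι => SheafOfModules.unit X.ringCatSheaf) i ≫ q
  show Sigma.ι (fun _ : ι => SheafOfModules.unit X.ringCatSheaf) i ≫ q ≫ g = 0
  rw [← Category.assoc]
  exact hg s

/-- a morphism kills all global sections iff it kills them as maps from the structure sheaf -/
theorem comp_eq_zero_iff {M T : X.Modules} (s : Coh.structureModule X ⟶ M) (g : M ⟶ T) :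
    s ≫ g = 0 ↔ g.app ⊤ (s.app ⊤ (1 : Γ(X, ⊤))) = 0 := by
  constructor
  · intro h
    exact congrArg (fun φ : Coh.structureModule X ⟶ T => φ.app ⊤ (1 : Γ(X, ⊤))) h
  · intro h
    have h' : (s ≫ g).app ⊤ (1 : Γ(X, ⊤)) = 0 := h
    rw [← homOfTop_one (s ≫ g), h']
    refine Scheme.Modules.hom_ext _ _ fun W => ?_
    refine ConcreteCategory.hom_ext _ _ fun a => ?_
    refine (homOfTop_app _ a).trans ?_
    rw [map_zero, smul_zero]
    rfl

/-- the pullback of sections -/
theorem unit_app_top {M T : X.Modules} (g : X' ⟶ X) (φ : M ⟶ T) (m : Γ(M, (⊤ : X.Opens))) :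
    ((Scheme.Modules.pullback g).map φ).app ⊤ (((Scheme.Modules.pullbackPushforwardAdjunction g).unit.app M).app ⊤ m) =
      ((Scheme.Modules.pullbackPushforwardAdjunction g).unit.app T).app ⊤ (φ.app ⊤ m) :=
  (congrArg (fun ψ : M ⟶ (Scheme.Modules.pushforward g).obj ((Scheme.Modules.pullback g).obj T) => ψ.app ⊤ m)
    ((Scheme.Modules.pullbackPushforwardAdjunction g).unit.naturality φ)).symm

/-- pullbacks of globally generated modules are globally generated -/
theorem isGloballyGenerated_pullback (g : X' ⟶ X) {M : X.Modules} (h : Curv2.IsGloballyGenerated M) :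
    Curv2.IsGloballyGenerated ((Scheme.Modules.pullback g).obj M) := by
  refine Euler.GG.isGloballyGenerated fun T φ hφ => ?_
  let adj := Scheme.Modules.pullbackPushforwardAdjunction g
  refine (adj.homEquiv _ _).injective ?_
  have h0 : adj.homEquiv M T (0 : (Scheme.Modules.pullback g).obj M ⟶ T) = 0 := by
    simp [Adjunction.homEquiv_unit]
  rw [h0]
  refine gg_of_isGloballyGenerated h _ _ fun s => (comp_eq_zero_iff s _).2 ?_
  rw [Adjunction.homEquiv_unit]
  show φ.app ⊤ ((adj.unit.app M).app ⊤ (s.app ⊤ (1 : Γ(X, ⊤)))) = 0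
  let t : Coh.structureModule X' ⟶ (Scheme.Modules.pullback g).obj M :=
    homOfTop ((adj.unit.app M).app ⊤ (s.app ⊤ (1 : Γ(X, ⊤))))
  have ht : t.app ⊤ (1 : Γ(X', ⊤)) = (adj.unit.app M).app ⊤ (s.app ⊤ (1 : Γ(X, ⊤))) := by
    refine (homOfTop_app _ _).trans ((one_smul _ _).trans ?_)
    exact ConcreteCategory.congr_hom (((Scheme.Modules.pullback g).obj M).presheaf.map_id (op (⊤ : X'.Opens))) _
  exact (congrArg (φ.app ⊤) ht.symm).trans ((comp_eq_zero_iff t φ).1 (hφ t))

variable {A B : Type u} [CommRing A] [CommRing B]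

/-- global generation descends along faithfully flat affine base change -/
theorem isGloballyGenerated_of_baseChange (φ : A →+* B) (f : X ⟶ Spec (CommRingCat.of A))
    (f' : X' ⟶ Spec (CommRingCat.of B)) (g : X' ⟶ X) [Flat g] [Surjective g]
    [Flat (Spec.map (CommRingCat.ofHom φ))] [QuasiCompact f] [QuasiSeparated f]
    (h : IsPullback g f' f (Spec.map (CommRingCat.ofHom φ))) {M : X.Modules} (hM : Coh.IsQCoh M)
    (hgg : Curv2.IsGloballyGenerated ((Scheme.Modules.pullback g).obj M)) : Curv2.IsGloballyGenerated M := by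
  letI : X.Over (Spec (CommRingCat.of A)) := ⟨f⟩
  letI : X'.Over (Spec (CommRingCat.of B)) := ⟨f'⟩
  haveI : QuasiCompact (X ↘ Spec (CommRingCat.of A)) := ‹QuasiCompact f›
  haveI : QuasiSeparated (X ↘ Spec (CommRingCat.of A)) := ‹QuasiSeparated f›
  have hiso : IsIso (CohBC.bc0 (X ↘ Spec (CommRingCat.of A)) (Spec.map (CommRingCat.ofHom φ))
      (X' ↘ Spec (CommRingCat.of B)) g h.w M) :=
    CohBC.isIso_bc0 _ _ _ _ h hM
  have hsurj := (PBC.isIso_bc0_and_surjective_sectionsBC φ g h hM).2 inferInstance
  refine Euler.GG.isGloballyGenerated fun T ψ hψ => ?_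
  let adj := Scheme.Modules.pullbackPushforwardAdjunction g
  have key : (Scheme.Modules.pullback g).map ψ = 0 := by
    refine gg_of_isGloballyGenerated hgg _ _ fun t => (comp_eq_zero_iff t _).2 ?_
    letI := φ.toAlgebra
    letI := secModule (Coh.toGlobal (X ↘ Spec (CommRingCat.of A))) M (⊤ : X.Opens)
    letI := secModule (Coh.toGlobal (X' ↘ Spec (CommRingCat.of B))) ((Scheme.Modules.pullback g).obj M) (⊤ : X'.Opens)
    obtain ⟨w, hw⟩ := hsurj (t.app ⊤ (1 : Γ(X', ⊤)))
    rw [← hw]
    clear hw
    induction w using TensorProduct.induction_on with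
    | zero => rw [map_zero]; exact map_zero _
    | add a b ha hb => rw [map_add]; exact (map_add _ _ _).trans (by rw [ha, hb, add_zero])
    | tmul b m =>
      have hm : ψ.app ⊤ m = 0 := by
        have := (comp_eq_zero_iff (homOfTop m) ψ).1 (hψ _)
        refine Eq.trans ?_ this
        refine congrArg (ψ.app ⊤) ((homOfTop_app _ _).trans ((one_smul _ _).trans ?_)).symm
        exact ConcreteCategory.congr_hom (M.presheaf.map_id (op (⊤ : X.Opens))) m
      refine (Scheme.Modules.Hom.app_smul ((Scheme.Modules.pullback g).map ψ) _ _).trans ?_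
      refine (congrArg (_ • ·) ?_).trans (smul_zero _)
      refine (congrArg (((Scheme.Modules.pullback g).map ψ).app ⊤)
        (show _ = (adj.unit.app M).app ⊤ m from ?_)).trans ?_
      · exact ConcreteCategory.congr_hom
          (((Scheme.Modules.pullback g).obj M).presheaf.map_id (op (⊤ : X'.Opens))) _
      refine (unit_app_top g ψ m).trans ?_
      rw [hm, map_zero]
  haveI : (Scheme.Modules.pullback g).Additive :=
    Adjunction.left_adjoint_additive adj
  haveI := KFlatLib.preservesHomology_pullback g
  haveI := Functor.preservesFiniteLimits_of_preservesHomology (Scheme.Modules.pullback g)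
  haveI := Functor.preservesFiniteColimits_of_preservesHomology (Scheme.Modules.pullback g)
  have he : (Scheme.Modules.pullback g).map (Abelian.factorThruImage ψ) = 0 := by
    rw [← cancel_mono ((Scheme.Modules.pullback g).map (Abelian.image.ι ψ)), zero_comp, ← Functor.map_comp,
      Abelian.image.fac]
    exact key
  have hz : IsZero (Abelian.image ψ) := by
    refine KFlatLib.isZero_of_isZero_pullback g _ ?_
    rw [IsZero.iff_id_eq_zero, ← cancel_epi ((Scheme.Modules.pullback g).map (Abelian.factorThruImage ψ)), he]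
    simp
  rw [← Abelian.image.fac ψ, hz.eq_of_src (Abelian.image.ι ψ) 0, comp_zero]

end Groth.Agent.GGFF

end
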