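import Mathlib

/-!
# Cyclic modules over semi-local rings, detected after faithfully flat extension
-/

set_option autoImplicit false
set_option linter.style.haveILetI false

universe u

open scoped TensorProduct

namespace Groth.Agent.GGFF

variable {A B R M : Type u} [CommRing A] [CommRing B] [CommRing R] [Algebra A B] [Algebra A R]
  [AddCommGroup M] [Module A M] [Module R M] [IsScalarTower A R M]

/-- multiplication by a pure tensor of scalars -/
noncomputable abbrev opBR (b : B) (r : R) : B ⊗[A] M →ₗ[A] B ⊗[A] M :=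
  TensorProduct.map (LinearMap.mulLeft A b) (DistribSMul.toLinearMap A M r)

variable [Module.FaithfullyFlat A B] (w : B ⊗[A] M)
  (hw : ∀ m : M, (1 : B) ⊗ₜ[A] m ∈ AddSubmonoid.closure {z | ∃ (b : B) (r : R), z = opBR b r w})

include hw

theorem fg_top_of_cyclic : (⊤ : Submodule R M).FG := by
  classical
  obtain ⟨N, hN, hwN⟩ : ∃ N : Submodule R M, N.FG ∧ w ∈ LinearMap.range (LinearMap.lTensor B (N.restrictScalars A).subtype) := by
    clear hw
    induction w using TensorProduct.induction_on with
    | zero => exact ⟨⊥, Submodule.fg_bot, zero_mem _⟩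
    | tmul b m =>
      exact ⟨Submodule.span R {m}, Submodule.fg_span_singleton m,
        b ⊗ₜ ⟨m, Submodule.mem_span_singleton_self m⟩, rfl⟩
    | add x y hx hy =>
      obtain ⟨N, hN, t, rfl⟩ := hx
      obtain ⟨N', hN', t', rfl⟩ := hy
      refine ⟨N ⊔ N', hN.sup hN', ?_⟩
      have h₁ : N.restrictScalars A ≤ (N ⊔ N').restrictScalars A := fun z hz => Submodule.mem_sup_left hz
      have h₂ : N'.restrictScalars A ≤ (N ⊔ N').restrictScalars A := fun z hz => Submodule.mem_sup_right hz
      refine ⟨LinearMap.lTensor B (Submodule.inclusion h₁) t + LinearMap.lTensor B (Submodule.inclusion h₂) t', ?_⟩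
      rw [map_add, ← LinearMap.lTensor_comp_apply, ← LinearMap.lTensor_comp_apply,
        Submodule.subtype_comp_inclusion, Submodule.subtype_comp_inclusion]
  have key : ∀ z ∈ AddSubmonoid.closure {z | ∃ (b : B) (r : R), z = opBR b r w},
      LinearMap.lTensor B (N.mkQ.restrictScalars A) z = 0 := by
    intro z hz
    induction hz using AddSubmonoid.closure_induction with
    | mem z hz =>
      obtain ⟨b, r, rfl⟩ := hz
      clear hw
      obtain ⟨t, rfl⟩ := hwN
      induction t using TensorProduct.induction_on with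
      | zero => simp
      | add a c ha hc => simp only [map_add] at ha hc ⊢; rw [ha, hc, add_zero]
      | tmul c n =>
        simp only [LinearMap.lTensor_tmul, TensorProduct.map_tmul]
        refine (congrArg ((b * c) ⊗ₜ[A] ·) ?_).trans (TensorProduct.tmul_zero _ _)
        exact (Submodule.Quotient.mk_eq_zero N).2 (N.smul_mem r n.2)
    | zero => simp
    | add a c _ _ ha hc => rw [map_add, ha, hc, add_zero]
  suffices h : ⊤ ≤ N by rwa [← eq_top_iff.2 h]
  intro m _
  have h0 : (1 : B) ⊗ₜ[A] N.mkQ m = 0 := key _ (hw m)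
  have h1 : (1 : B) ⊗ₜ[A] N.mkQ m = (1 : B) ⊗ₜ[A] (0 : M ⧸ N) := by rw [h0, TensorProduct.tmul_zero]
  exact (Submodule.Quotient.mk_eq_zero N).1 (Module.FaithfullyFlat.tensorProduct_mk_injective (B := B) (M ⧸ N) h1)

theorem exists_generator_mod (I : Ideal R) [I.IsMaximal] :
    ∃ x : M, ∀ m : M, ∃ r : R, m - r • x ∈ I • (⊤ : Submodule R M) := by
  classical
  letI : Field (R ⧸ I) := Ideal.Quotient.field I
  let V := M ⧸ (I • (⊤ : Submodule R M))
  let q : M →ₗ[R] V := (I • (⊤ : Submodule R M)).mkQ
  by_cases h0 : ∀ m, q m = 0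
  · exact ⟨0, fun m => ⟨0, by rw [zero_smul, sub_zero]; exact (Submodule.Quotient.mk_eq_zero _).1 (h0 m)⟩⟩
  push Not at h0
  obtain ⟨x, hx⟩ := h0
  refine ⟨x, fun m => ?_⟩
  obtain ⟨g, hg⟩ := LinearMap.exists_leftInverse_of_injective (LinearMap.toSpanSingleton (R ⧸ I) V (q x))
    (LinearMap.ker_toSpanSingleton _ hx)
  obtain ⟨c, hc⟩ := Ideal.Quotient.mk_surjective (g (q m))
  refine ⟨c, ?_⟩
  have hgx : g (q x) = 1 := by simpa using LinearMap.congr_fun hg 1
  by_contra hm
  let y := q (m - c • x)
  have hy : y ≠ 0 := fun h => hm ((Submodule.Quotient.mk_eq_zero _).1 h)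
  have hgy : g y = 0 := by
    have : y = q m - (Ideal.Quotient.mk I c) • q x := by
      simp only [y, map_sub, map_smul]
      rfl
    rw [this, map_sub, map_smul, hgx, smul_eq_mul, mul_one, hc, sub_self]
  obtain ⟨g', hg'⟩ := LinearMap.exists_leftInverse_of_injective (LinearMap.toSpanSingleton (R ⧸ I) V y)
    (LinearMap.ker_toSpanSingleton _ hy)
  have hgy' : g' y = 1 := by simpa using LinearMap.congr_fun hg' 1
  let g₂ : V →ₗ[R ⧸ I] R ⧸ I := g' - g' (q x) • g
  have h2x : g₂ (q x) = 0 := by simp [g₂, hgx]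
  have h2y : g₂ y = 1 := by simp [g₂, hgy, hgy']
  let p : (V →ₗ[R ⧸ I] R ⧸ I) → M →ₗ[A] R ⧸ I := fun l =>
    { toFun := fun m => l (q m)
      map_add' := fun a b => by simp
      map_smul' := fun a m' => by
        rw [← IsScalarTower.algebraMap_smul R a m', map_smul, RingHom.id_apply,
          ← IsScalarTower.algebraMap_smul R a (l (q m'))]
        exact l.map_smul (Ideal.Quotient.mk I (algebraMap A R a)) (q m') }
  have act : ∀ z ∈ AddSubmonoid.closure {z | ∃ (b : B) (r : R), z = opBR b r w},
      ∃ c : B ⊗[A] (R ⧸ I), ∀ l : V →ₗ[R ⧸ I] R ⧸ I,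
        LinearMap.lTensor B (p l) z = c * LinearMap.lTensor B (p l) w := by
    intro z hz
    induction hz using AddSubmonoid.closure_induction with
    | mem z hz =>
      obtain ⟨b, r, rfl⟩ := hz
      refine ⟨b ⊗ₜ Ideal.Quotient.mk I r, fun l => ?_⟩
      clear hw
      induction w using TensorProduct.induction_on with
      | zero => simp
      | add a d ha hd => simp only [map_add, ha, hd, mul_add]
      | tmul d m' =>
        simp only [LinearMap.lTensor_tmul, TensorProduct.map_tmul, Algebra.TensorProduct.tmul_mul_tmul]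
        refine congrArg ((b * d) ⊗ₜ[A] ·) ?_
        show l (q (r • m')) = _
        rw [map_smul]
        exact l.map_smul (Ideal.Quotient.mk I r) (q m')
    | zero => exact ⟨0, fun l => by simp⟩
    | add a d _ _ ha hd =>
      obtain ⟨c, hc⟩ := ha
      obtain ⟨c', hc'⟩ := hd
      exact ⟨c + c', fun l => by rw [map_add, hc l, hc' l, add_mul]⟩
  obtain ⟨a, ha⟩ := act _ (hw x)
  obtain ⟨d, hd⟩ := act _ (hw (m - c • x))
  have e1 : (1 : B) ⊗ₜ[A] (1 : R ⧸ I) = a * LinearMap.lTensor B (p g) w := by
    rw [← ha g, LinearMap.lTensor_tmul]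
    exact congrArg _ hgx.symm
  have e2 : (0 : B ⊗[A] (R ⧸ I)) = a * LinearMap.lTensor B (p g₂) w := by
    rw [← ha g₂, LinearMap.lTensor_tmul]
    exact ((congrArg _ h2x).trans (TensorProduct.tmul_zero _ _)).symm
  have e3 : (1 : B) ⊗ₜ[A] (1 : R ⧸ I) = d * LinearMap.lTensor B (p g₂) w := by
    rw [← hd g₂, LinearMap.lTensor_tmul]
    exact congrArg _ h2y.symm
  have hv : LinearMap.lTensor B (p g₂) w = 0 := by
    calc LinearMap.lTensor B (p g₂) w = (a * LinearMap.lTensor B (p g) w) * LinearMap.lTensor B (p g₂) w := by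
          rw [← e1, ← Algebra.TensorProduct.one_def, one_mul]
      _ = LinearMap.lTensor B (p g) w * (a * LinearMap.lTensor B (p g₂) w) := by ring
      _ = 0 := by rw [← e2, mul_zero]
  have h10 : (1 : B) ⊗ₜ[A] (1 : R ⧸ I) = (1 : B) ⊗ₜ[A] (0 : R ⧸ I) := by
    rw [e3, hv, mul_zero, TensorProduct.tmul_zero]
  exact one_ne_zero (Module.FaithfullyFlat.tensorProduct_mk_injective (B := B) (R ⧸ I) h10)

/-- over a semi-local ring such a module is generated by one element -/
theorem exists_generator_of_cyclic [Finite (MaximalSpectrum R)] : ∃ e : M, ∀ m : M, ∃ r : R, r • e = m := by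
  classical
  choose x hx using fun j : MaximalSpectrum R =>
    haveI := j.isMaximal
    exists_generator_mod w hw j.asIdeal
  cases nonempty_fintype (MaximalSpectrum R)
  have hco : Pairwise (Function.onFun IsCoprime fun j : MaximalSpectrum R => j.asIdeal) := fun j k hjk =>
    Ideal.isCoprime_iff_sup_eq.2 (j.isMaximal.coprime_of_ne k.isMaximal fun h => hjk (MaximalSpectrum.ext h))
  choose a ha using fun j : MaximalSpectrum R =>
    Ideal.exists_forall_sub_mem_ideal hco (fun k => if k = j then (1 : R) else 0)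
  let e := ∑ j, a j • x j
  have he : ∀ j, e - x j ∈ j.asIdeal • (⊤ : Submodule R M) := fun j => by
    have : e - x j = ∑ k, (a k - if j = k then (1 : R) else 0) • x k := by
      simp only [sub_smul, Finset.sum_sub_distrib, ite_smul, one_smul, zero_smul, Finset.sum_ite_eq,
        Finset.mem_univ, if_true, e]
    rw [this]
    exact Submodule.sum_mem _ fun k _ => Submodule.smul_mem_smul (ha k j) trivial
  let N := Submodule.span R {e}
  have hj : ∀ j : MaximalSpectrum R, (⊤ : Submodule R M) ≤ N ⊔ j.asIdeal • ⊤ := fun j m _ => by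
    obtain ⟨r, hr⟩ := hx j m
    refine Submodule.mem_sup.2 ⟨r • e, Submodule.smul_mem _ _ (Submodule.mem_span_singleton_self e),
      (m - r • x j) - r • (e - x j), Submodule.sub_mem _ hr (Submodule.smul_mem _ _ (he j)), ?_⟩
    simp only [smul_sub]
    abel
  have hprod : ∀ s : Finset (MaximalSpectrum R),
      (⊤ : Submodule R M) ≤ N ⊔ (∏ j ∈ s, j.asIdeal) • ⊤ := fun s => by
    induction s using Finset.induction with
    | empty => simp
    | insert j s hjs ih =>
      calc (⊤ : Submodule R M) ≤ N ⊔ (∏ k ∈ s, k.asIdeal) • ⊤ := ih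
        _ ≤ N ⊔ (∏ k ∈ s, k.asIdeal) • (N ⊔ j.asIdeal • ⊤) := sup_le_sup_left (Submodule.smul_mono le_rfl (hj j)) _
        _ ≤ N ⊔ (∏ k ∈ insert j s, k.asIdeal) • ⊤ := by
          rw [Submodule.smul_sup, Finset.prod_insert hjs, ← Submodule.mul_smul, mul_comm j.asIdeal]
          exact sup_le le_sup_left (sup_le (Submodule.smul_le_right.trans le_sup_left) le_sup_right)
  have hJ : (∏ j : MaximalSpectrum R, j.asIdeal) ≤ Ideal.jacobson ⊥ := le_sInf fun K hK =>
    (Ideal.prod_le_inf.trans (Finset.inf_le (Finset.mem_univ (⟨K, hK.2⟩ : MaximalSpectrum R))))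
  have htop : (⊤ : Submodule R M) ≤ N :=
    Submodule.le_of_le_smul_of_le_jacobson_bot (fg_top_of_cyclic w hw) hJ (hprod Finset.univ)
  exact ⟨e, fun m => Submodule.mem_span_singleton.1 (htop trivial)⟩

end Groth.Agent.GGFF
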