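import Groth.Agent.GGFF.Descent
import Groth.Agent.GGFF.PicAlg
import Groth.Agent.PBC.SecBij
import Groth.Agent.Lib.CurveTensor
import Groth.Agent.Lib.InvEnd
import Groth.Agent.Synt29.OmegaStalk

/-!
# Injectivity of `Pic` under faithfully flat base change for semi-local `H⁰(O)`
-/

set_option autoImplicit false
set_option linter.style.haveILetI false
set_option backward.isDefEq.respectTransparency false
set_option backward.isDefEq.respectTransparency.types false
set_option maxHeartbeats 1000000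

universe u

open CategoryTheory CategoryTheory.Limits AlgebraicGeometry TopologicalSpace Opposite
open scoped TensorProduct

noncomputable section

namespace Groth.Agent.GGFF

open Groth.Agent.QCoh

variable {X X' : Scheme.{u}}

theorem isIso_of_epi_invertible {L M : X.Modules} (hL : PicF.IsInvertible L)
    (hM : PicF.IsInvertible M) (f : L ⟶ M) [Epi f] : IsIso f := by
  haveI : ∀ x, IsIso ((DerSch.stalkFunctor X x).map f) := fun x => by
    let R := X.presheaf.stalk x
    obtain ⟨b⟩ := CurveTensor.exists_basis_stalk (InvEnd.isFinLocFreeOfRank_one hL) x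
    obtain ⟨b'⟩ := CurveTensor.exists_basis_stalk (InvEnd.isFinLocFreeOfRank_one hM) x
    let eL := b.equivFun.trans (LinearEquiv.funUnique (Fin 1) R R)
    let eM := b'.equivFun.trans (LinearEquiv.funUnique (Fin 1) R R)
    let F : R →ₗ[R] R := eM.toLinearMap ∘ₗ ((DerSch.stalkFunctor X x).map f).hom ∘ₗ eL.symm.toLinearMap
    have h1 : Function.Surjective ((DerSch.stalkFunctor X x).map f) :=
      (Synt29.OmegaStalk.epi_iff_stalk f).1 inferInstance x
    have hF : Function.Surjective F := eM.surjective.comp (h1.comp eL.symm.surjective)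
    have h2 := (Function.Bijective.of_comp_iff' eM.bijective _).1
      (OrzechProperty.bijective_of_surjective_endomorphism F hF)
    exact (ConcreteCategory.isIso_iff_bijective _).2
      ((Function.Bijective.of_comp_iff _ eL.symm.bijective).1 h2)
  exact KFlatLib.isIso_of_stalk f this

/-- the pullback of a function, through the trivialisation of the pullback of the structure sheaf -/
theorem unitToUnit_app_unit (g : X' ⟶ X) (r : Γ(X, ⊤)) :
    (show (Scheme.Modules.pullback g).obj (Coh.structureModule X) ⟶ Coh.structureModule X' from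
        SheafOfModules.pullbackObjUnitToUnit g.toRingCatSheafHom).app ⊤
      (((Scheme.Modules.pullbackPushforwardAdjunction g).unit.app (Coh.structureModule X)).app ⊤ r) =
      (show Γ(X', ⊤) from g.appTop r) := by
  have h := SheafOfModules.pullbackPushforwardAdjunction_homEquiv_pullbackObjUnitToUnit g.toRingCatSheafHom
  rw [Adjunction.homEquiv_unit] at h
  exact congrArg (fun φ : Coh.structureModule X ⟶ (Scheme.Modules.pushforward g).obj (Coh.structureModule X') =>
    φ.app ⊤ r) h

/-- pullback of sections is semilinear -/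
theorem unit_app_smul (g : X' ⟶ X) (M : X.Modules) (r : Γ(X, ⊤)) (m : Γ(M, (⊤ : X.Opens))) :
    ((Scheme.Modules.pullbackPushforwardAdjunction g).unit.app M).app ⊤ (r • m) =
      (show Γ(X', ⊤) from g.appTop r) •
        (show Γ((Scheme.Modules.pullback g).obj M, (⊤ : X'.Opens)) from
          ((Scheme.Modules.pullbackPushforwardAdjunction g).unit.app M).app ⊤ m) :=
  Scheme.Modules.Hom.app_smul _ r m

variable {A B : Type u} [CommRing A] [CommRing B] (φ : A →+* B)

/-- the value of the base change map of sections on a pure tensor -/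
theorem sectionsBC_tmul [X.Over (Spec (CommRingCat.of A))] [X'.Over (Spec (CommRingCat.of B))] (g : X' ⟶ X)
    (h : IsPullback g (X' ↘ Spec (CommRingCat.of B)) (X ↘ Spec (CommRingCat.of A))
      (Spec.map (CommRingCat.ofHom φ))) (F : X.Modules) (b : B) (m : Γ(F, (⊤ : X.Opens))) :
    letI := φ.toAlgebra
    letI := secModule (Coh.toGlobal (X ↘ Spec (CommRingCat.of A))) F (⊤ : X.Opens)
    PBC.sectionsBC φ g h (F := F) (b ⊗ₜ[A] m) =
      (show Γ(X', ⊤) from Coh.toGlobal (X' ↘ Spec (CommRingCat.of B)) b) •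
        (show Γ((Scheme.Modules.pullback g).obj F, (⊤ : X'.Opens)) from
          ((Scheme.Modules.pullbackPushforwardAdjunction g).unit.app F).app ⊤ m) := by
  letI := φ.toAlgebra
  letI := secModule (Coh.toGlobal (X ↘ Spec (CommRingCat.of A))) F (⊤ : X.Opens)
  letI := secModule (Coh.toGlobal (X' ↘ Spec (CommRingCat.of B))) ((Scheme.Modules.pullback g).obj F) (⊤ : X'.Opens)
  letI := secModule ((Coh.toGlobal (X' ↘ Spec (CommRingCat.of B))).comp (algebraMap A B))
    ((Scheme.Modules.pullback g).obj F) (⊤ : X'.Opens)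
  haveI : IsScalarTower A B Γ((Scheme.Modules.pullback g).obj F, (⊤ : X'.Opens)) :=
    .of_algebraMap_smul fun _ _ => rfl
  refine (LinearMap.liftBaseChange_tmul _ _ _ _).trans ?_
  refine (congrArg (fun r : Γ(X', ⊤) => r • QCoh.secMap g
      ((Scheme.Modules.pullbackPushforwardAdjunction g).unit.app F) (V := (⊤ : X.Opens)) (W := (⊤ : X'.Opens)) le_top m)
    (QCoh.ringMap_id (U := (⊤ : X'.Opens)) (homOfLE le_top)
      (Coh.toGlobal (X' ↘ Spec (CommRingCat.of B)) b))).trans ?_
  exact congrArg (fun z : Γ((Scheme.Modules.pullback g).obj F, (⊤ : X'.Opens)) =>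
      (show Γ(X', ⊤) from Coh.toGlobal (X' ↘ Spec (CommRingCat.of B)) b) • z)
    (ConcreteCategory.congr_hom (((Scheme.Modules.pullback g).obj F).presheaf.map_id (op (⊤ : X'.Opens))) _)

/-- an invertible module that becomes trivial after faithfully flat base change is trivial -/
theorem nonempty_iso_structureModule_of_baseChange (hff : φ.FaithfullyFlat) (f : X ⟶ Spec (CommRingCat.of A))
    (f' : X' ⟶ Spec (CommRingCat.of B)) (g : X' ⟶ X) [Flat g] [Surjective g]
    [Flat (Spec.map (CommRingCat.ofHom φ))] [QuasiCompact f] [QuasiSeparated f]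
    (h : IsPullback g f' f (Spec.map (CommRingCat.ofHom φ)))
    [Finite (MaximalSpectrum Γ(X, ⊤))] {L : X.Modules} (hL : PicF.IsInvertible L) (hLq : Coh.IsQCoh L)
    (θ : (Scheme.Modules.pullback g).obj L ≅ Coh.structureModule X') :
    Nonempty (L ≅ Coh.structureModule X) := by
  letI : Algebra A B := φ.toAlgebra
  haveI : Module.FaithfullyFlat A B := hff
  letI : X.Over (Spec (CommRingCat.of A)) := ⟨f⟩
  letI : X'.Over (Spec (CommRingCat.of B)) := ⟨f'⟩
  haveI : QuasiCompact (X ↘ Spec (CommRingCat.of A)) := ‹QuasiCompact f›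
  haveI : QuasiSeparated (X ↘ Spec (CommRingCat.of A)) := ‹QuasiSeparated f›
  let ρ : A →+* Γ(X, ⊤) := Coh.toGlobal (X ↘ Spec (CommRingCat.of A))
  let ρ' : B →+* Γ(X', ⊤) := Coh.toGlobal (X' ↘ Spec (CommRingCat.of B))
  let L' := (Scheme.Modules.pullback g).obj L
  let η := (Scheme.Modules.pullbackPushforwardAdjunction g).unit
  letI : Algebra A Γ(X, ⊤) := RingHom.toAlgebra ρ
  letI := secModule ρ L (⊤ : X.Opens)
  letI := secModule ρ (Coh.structureModule X) (⊤ : X.Opens)
  letI := secModule ρ' L' (⊤ : X'.Opens)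
  haveI : IsScalarTower A Γ(X, ⊤) Γ(L, (⊤ : X.Opens)) := .of_algebraMap_smul fun a m =>
    (congrArg (· • m) (QCoh.ringMap_id (U := (⊤ : X.Opens)) (homOfLE le_top) (ρ a))).symm.trans rfl
  have hO : Coh.IsQCoh (Coh.structureModule X) := PnCoh.isQCoh_structureModule X
  have hbcL : IsIso (CohBC.bc0 (X ↘ Spec (CommRingCat.of A)) (Spec.map (CommRingCat.ofHom φ))
      (X' ↘ Spec (CommRingCat.of B)) g h.w L) := CohBC.isIso_bc0 _ _ _ _ h hLq
  have hbcO : IsIso (CohBC.bc0 (X ↘ Spec (CommRingCat.of A)) (Spec.map (CommRingCat.ofHom φ))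
      (X' ↘ Spec (CommRingCat.of B)) g h.w (Coh.structureModule X)) := CohBC.isIso_bc0 _ _ _ _ h hO
  have hbij := PBC.bijective_sectionsBC_of_isIso φ g h hLq hbcL
  have hO' := (PBC.isIso_bc0_and_surjective_sectionsBC φ g h hO).2 inferInstance
  let sb : B ⊗[A] Γ(L, (⊤ : X.Opens)) → Γ(L', (⊤ : X'.Opens)) := fun z => PBC.sectionsBC φ g h (F := L) z
  have sb_tmul : ∀ (b : B) (m : Γ(L, (⊤ : X.Opens))), sb (b ⊗ₜ[A] m) =
      (ρ' b : Γ(X', ⊤)) • (show Γ(L', (⊤ : X'.Opens)) from (η.app L).app ⊤ m) := fun b m =>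
    sectionsBC_tmul φ g h L b m
  have sb_op : ∀ (b : B) (r : Γ(X, ⊤)) (z : B ⊗[A] Γ(L, (⊤ : X.Opens))),
      sb (opBR b r z) = ((ρ' b : Γ(X', ⊤)) * (show Γ(X', ⊤) from g.appTop r)) • sb z := by
    intro b r z
    induction z using TensorProduct.induction_on with
    | zero =>
      rw [map_zero]
      exact (map_zero (PBC.sectionsBC φ g h (F := L))).trans
        ((smul_zero _).symm.trans (congrArg (_ • ·) (map_zero (PBC.sectionsBC φ g h (F := L))).symm))
    | add z z' hz hz' =>
      show PBC.sectionsBC φ g h (F := L) (opBR b r (z + z')) = _ • PBC.sectionsBC φ g h (F := L) (z + z')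
      rw [map_add, map_add, map_add, smul_add]
      exact congrArg₂ (· + ·) hz hz'
    | tmul b' m =>
      rw [show opBR b r (b' ⊗ₜ[A] m) = (b * b') ⊗ₜ[A] (r • m) from rfl, sb_tmul, sb_tmul,
        unit_app_smul g L r m, map_mul, ← mul_smul, ← mul_smul]
      congr 1
      ring
  let t₀ : Γ(L', (⊤ : X'.Opens)) := θ.inv.app ⊤ (1 : Γ(X', ⊤))
  obtain ⟨w, hw⟩ := hbij.2 t₀
  have hcyc : ∀ m : Γ(L, (⊤ : X.Opens)), (1 : B) ⊗ₜ[A] m ∈
      AddSubmonoid.closure {z | ∃ (b : B) (r : Γ(X, ⊤)), z = opBR b r w} := by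
    intro m
    let ηm : Γ(L', (⊤ : X'.Opens)) := (η.app L).app ⊤ m
    let c : Γ(X', ⊤) := θ.hom.app ⊤ ηm
    have hc : (c : Γ(X', ⊤)) • t₀ = ηm := by
      refine ((Scheme.Modules.Hom.app_smul θ.inv c (1 : Γ(X', ⊤))).symm.trans
        (congrArg (θ.inv.app ⊤) (mul_one c))).trans ?_
      exact congrArg (fun φ : L' ⟶ L' => φ.app ⊤ ηm) θ.hom_inv_id
    haveI : IsIso (SheafOfModules.pullbackObjUnitToUnit g.toRingCatSheafHom) := inferInstance
    let θO : (Scheme.Modules.pullback g).obj (Coh.structureModule X) ≅ Coh.structureModule X' :=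
      asIso (SheafOfModules.pullbackObjUnitToUnit g.toRingCatSheafHom)
    obtain ⟨t, ht⟩ := hO' (θO.inv.app ⊤ c)
    have hct : θO.hom.app ⊤ (PBC.sectionsBC φ g h (F := Coh.structureModule X) t) = c :=
      (congrArg (θO.hom.app ⊤) ht).trans (congrArg (fun φ : Coh.structureModule X' ⟶ Coh.structureModule X' =>
        φ.app ⊤ c) θO.inv_hom_id)
    suffices key : ∀ t, ∃ z ∈ AddSubmonoid.closure {z | ∃ (b : B) (r : Γ(X, ⊤)), z = opBR b r w},
        sb z = (show Γ(X', ⊤) from
          θO.hom.app ⊤ (PBC.sectionsBC φ g h (F := Coh.structureModule X) t)) • t₀ by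
      obtain ⟨z, hz, hzc⟩ := key t
      have : sb z = sb ((1 : B) ⊗ₜ[A] m) := by
        rw [hzc, sb_tmul, map_one, one_smul]
        exact (congrArg (fun c' : Γ(X', ⊤) => c' • t₀) hct).trans hc
      rwa [hbij.1 this] at hz
    intro t
    induction t using TensorProduct.induction_on with
    | zero =>
      refine ⟨0, zero_mem _, ?_⟩
      rw [map_zero]
      exact (map_zero (PBC.sectionsBC φ g h (F := L))).trans
        ((zero_smul Γ(X', ⊤) t₀).symm.trans (congrArg (· • t₀) (map_zero (θO.hom.app ⊤).hom).symm))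
    | add a d ha hd =>
      obtain ⟨z, hz, hza⟩ := ha
      obtain ⟨z', hz', hzd⟩ := hd
      refine ⟨z + z', add_mem hz hz', ?_⟩
      refine (map_add (PBC.sectionsBC φ g h (F := L)) z z').trans ?_
      refine (congrArg₂ (· + ·) hza hzd).trans ((add_smul _ _ _).symm.trans (congrArg (· • t₀) ?_))
      exact ((congrArg (θO.hom.app ⊤) (map_add _ a d)).trans (map_add (θO.hom.app ⊤).hom _ _)).symm
    | tmul b r =>
      refine ⟨opBR b (show Γ(X, ⊤) from r) w, AddSubmonoid.subset_closure ⟨b, r, rfl⟩, ?_⟩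
      rw [sb_op]
      refine (congrArg (_ • ·) hw).trans (congrArg (· • t₀) ?_)
      refine Eq.symm ?_
      refine (congrArg (θO.hom.app ⊤) (sectionsBC_tmul φ g h (Coh.structureModule X) b r)).trans ?_
      refine (Scheme.Modules.Hom.app_smul θO.hom (ρ' b) _).trans ?_
      exact congrArg (ρ' b • ·) (unitToUnit_app_unit g r)
  obtain ⟨e, he⟩ := exists_generator_of_cyclic w hcyc
  have hggO : Curv2.IsGloballyGenerated (Coh.structureModule X') :=
    Euler.GG.isGloballyGenerated fun T φ hφ => by simpa using hφ (𝟙 _)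
  have hggL' : Curv2.IsGloballyGenerated L' := by
    obtain ⟨ι, p, hp⟩ := hggO
    exact ⟨ι, p ≫ θ.inv, inferInstance⟩
  have hgg : Curv2.IsGloballyGenerated L := isGloballyGenerated_of_baseChange φ f f' g h hLq hggL'
  haveI : Epi (homOfTop e) := Preadditive.epi_of_cancel_zero _ fun {T} ψ hψ => by
    refine gg_of_isGloballyGenerated hgg _ _ fun t => (comp_eq_zero_iff t ψ).2 ?_
    obtain ⟨r, hr⟩ := he (t.app ⊤ (1 : Γ(X, ⊤)))
    rw [← hr]
    refine (Scheme.Modules.Hom.app_smul ψ r e).trans ((congrArg (r • ·) ?_).trans (smul_zero r))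
    refine (congrArg (ψ.app ⊤) ?_).trans ((comp_eq_zero_iff (homOfTop e) ψ).1 hψ)
    exact ((homOfTop_app _ _).trans ((one_smul _ _).trans
      (ConcreteCategory.congr_hom (L.presheaf.map_id (op (⊤ : X.Opens))) e))).symm
  haveI := isIso_of_epi_invertible InvX.isInvertible_structureModule hL (homOfTop e)
  exact ⟨(asIso (homOfTop e)).symm⟩

end Groth.Agent.GGFF

end
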